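import Groth.Agent.AssocBdl.Quot
import Groth.Prelude.Def_AlgGrp
import Groth.Prelude.Def_NonAbH2

/-!
# Factoring a torsor through a factor group
-/

set_option autoImplicit false
set_option backward.isDefEq.respectTransparency false
set_option backward.isDefEq.respectTransparency.types false
set_option linter.style.haveILetI false

universe u

open CategoryTheory CategoryTheory.Limits MonoidalCategory CartesianMonoidalCategory MonObj AlgebraicGeometry
open Groth.Agent.GITQuot

attribute [local instance] CategoryTheory.Hom.monoid CategoryTheory.Hom.group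

noncomputable section

namespace Groth.Agent.AssocBdl

variable {S : Scheme.{u}}

theorem isPullback_whiskerLeft (B : Over S) {T' T : Over S} (f : T' ⟶ T) :
    IsPullback (B ◁ f) (snd B T') (snd B T) f := by
  have hf : ∀ Z : Over S, IsPullback (fst B Z) (snd B Z) (toUnit B) (toUnit Z) := fun Z => by
    have h := IsPullback.of_is_product (C := Over S) (tensorProductIsBinaryProduct B Z) isTerminalTensorUnit
    have e1 : isTerminalTensorUnit.from B = toUnit B := toUnit_unique _ _
    have e2 : isTerminalTensorUnit.from Z = toUnit Z := toUnit_unique _ _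
    simpa [e1, e2] using h
  exact IsPullback.of_right (by simpa using hf T') (by simp) (hf T)

/-- An action descends along an equivariant fppf map. -/
theorem exists_descend_action {A M Z : Over S} [GrpObj A] (d : AlgGrp.Action A M) (π : M ⟶ Z) [Flat π.left]
    [Surjective π.left] [LocallyOfFinitePresentation π.left]
    (h : ∀ (T : Over S) (g : T ⟶ A) (x y : T ⟶ M), x ≫ π = y ≫ π →
      lift g x ≫ d.act ≫ π = lift g y ≫ d.act ≫ π) :
    ∃ d' : AlgGrp.Action A Z, (A ◁ π) ≫ d'.act = d.act ≫ π := by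
  have hw : ∀ B : Over S, Flat (B ◁ π).left ∧ Surjective (B ◁ π).left ∧ LocallyOfFinitePresentation (B ◁ π).left :=
    fun B => ⟨MorphismProperty.of_isPullback (isPullback_left (isPullback_whiskerLeft B π)).flip ‹_›,
      MorphismProperty.of_isPullback (isPullback_left (isPullback_whiskerLeft B π)).flip ‹_›,
      MorphismProperty.of_isPullback (isPullback_left (isPullback_whiskerLeft B π)).flip ‹_›⟩
  have hepi : ∀ B : Over S, Epi (B ◁ π) := fun B => by
    obtain ⟨_, _, _⟩ := hw B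
    exact (Over.forget S).epi_of_epi_map (inferInstanceAs (Epi (B ◁ π).left))
  obtain ⟨_, _, _⟩ := hw A
  obtain ⟨act, hact⟩ := exists_desc (A ◁ π) (d.act ≫ π) fun T x y e => by
    have e₁ : x ≫ fst A M = y ≫ fst A M := by
      have := congrArg (· ≫ fst A Z) e
      simpa using this
    have e₂ : (x ≫ snd A M) ≫ π = (y ≫ snd A M) ≫ π := by
      have := congrArg (· ≫ snd A Z) e
      simpa using this
    rw [← lift_comp_fst_snd x, ← lift_comp_fst_snd y, e₁]
    exact h T _ _ _ e₂
  refine ⟨⟨act, ?_, ?_⟩, hact⟩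
  · haveI := hepi (𝟙_ (Over S))
    rw [← cancel_epi (𝟙_ _ ◁ π), whisker_exchange_assoc, hact, reassoc_of% d.one_act]
    exact (leftUnitor_naturality π).symm
  · haveI := hepi (A ⊗ A)
    rw [← cancel_epi ((A ⊗ A) ◁ π), whisker_exchange_assoc, hact, reassoc_of% d.mul_act,
      associator_naturality_right_assoc, ← MonoidalCategory.whiskerLeft_comp_assoc, hact,
      MonoidalCategory.whiskerLeft_comp_assoc, hact]

variable {G N Q X Y : Over S} [GrpObj G] [GrpObj N] [GrpObj Q]

/-- A homomorphism gives an action of the source on the target by translation. -/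
def transl (q : G ⟶ Q) [IsMonHom q] : AlgGrp.Action G Q where
  act := (fst G Q ≫ q) * snd G Q
  one_act := by
    rw [MonObj.comp_mul, whiskerRight_fst_assoc, IsMonHom.one_hom, whiskerRight_snd]
    rw [show fst (𝟙_ (Over S)) Q ≫ η[Q] = 1 by rw [Hom.one_def, toUnit_unique (toUnit _) (fst _ _)], _root_.one_mul]
    exact (leftUnitor_hom Q).symm
  mul_act := by
    apply AlgGrp.Action.hom_ext_lift₃
    intro T g h x
    simp only [MonObj.comp_mul, lift_whiskerRight_assoc, lift_lift_associator_hom_assoc, lift_whiskerLeft_assoc,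
      lift_fst_assoc, lift_snd, lift_snd_assoc, whiskerRight_fst_assoc, associator_hom_fst_assoc, lift_fst,
      ← Hom.mul_def, MonObj.mul_comp, _root_.mul_assoc]
    rw [← Category.assoc, ← Hom.mul_def, MonObj.mul_comp, _root_.mul_assoc]

theorem transl_lift (q : G ⟶ Q) [IsMonHom q] {T : Over S} (g : T ⟶ G) (t : T ⟶ Q) :
    lift g t ≫ (transl q).act = (g ≫ q) * t := by
  simp [transl, MonObj.comp_mul]

/-- The inverse right translation on the second factor. -/
def rightTransl (X Q : Over S) [GrpObj Q] : AlgGrp.Action Q (X ⊗ Q) where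
  act := lift (snd Q (X ⊗ Q) ≫ fst X Q) ((snd Q (X ⊗ Q) ≫ snd X Q) * (fst Q (X ⊗ Q))⁻¹)
  one_act := by
    apply AlgGrp.Action.hom_ext_lift₂
    intro T u p
    have hu : u ≫ η[Q] = 1 := by rw [Hom.one_def, toUnit_unique (toUnit T) u]
    rw [lift_whiskerRight_assoc, hu]
    apply CartesianMonoidalCategory.hom_ext <;>
      simp [leftUnitor_hom, MonObj.comp_mul, GrpObj.comp_inv]
  mul_act := by
    apply AlgGrp.Action.hom_ext_lift₃
    intro T g h p
    rw [lift_whiskerRight_assoc, lift_lift_associator_hom_assoc, lift_whiskerLeft_assoc, ← Hom.mul_def]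
    apply CartesianMonoidalCategory.hom_ext <;>
      simp [MonObj.comp_mul, GrpObj.comp_inv, _root_.mul_inv_rev, _root_.mul_assoc]

theorem rightTransl_lift {T : Over S} (h : T ⟶ Q) (p : T ⟶ X ⊗ Q) :
    lift h p ≫ (rightTransl X Q).act = lift (p ≫ fst X Q) ((p ≫ snd X Q) * h⁻¹) := by
  apply CartesianMonoidalCategory.hom_ext <;> simp [rightTransl, MonObj.comp_mul, GrpObj.comp_inv]

theorem prod_lift {Z : Over S} (a : AlgGrp.Action G X) (b : AlgGrp.Action G Z) {T : Over S} (g : T ⟶ G) (p : T ⟶ X ⊗ Z) :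
    lift g p ≫ (a.prod b).act = lift (lift g (p ≫ fst X Z) ≫ a.act) (lift g (p ≫ snd X Z) ≫ b.act) := by
  apply CartesianMonoidalCategory.hom_ext <;> simp [AlgGrp.Action.prod]

variable (q : G ⟶ Q) [IsMonHom q] [IsAffineHom Q.hom] (a : AlgGrp.Action G X) (φ : X ⟶ Y)
  (hcart : IsPullback a.act (snd G X) φ φ)
  [IsAffineHom φ.left] [Flat φ.left] [Surjective φ.left] [LocallyOfFinitePresentation φ.left]

include hcart in
/-- Changing the structure group of a torsor along a homomorphism to an affine group. -/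
theorem exists_pushout :
    ∃ (Z : Over S) (π : X ⊗ Q ⟶ Z) (r : Z ⟶ Y) (bQ : AlgGrp.Action Q Z), π ≫ r = fst X Q ≫ φ ∧
      IsPullback (a.prod (transl q)).act (snd G (X ⊗ Q)) π π ∧ IsPullback (fst X Q) π φ r ∧
      Flat π.left ∧ Surjective π.left ∧ LocallyOfFinitePresentation π.left ∧ IsAffineHom π.left ∧
      IsPullback bQ.act (snd Q Z) r r ∧
      ∀ {T : Over S} (g : T ⟶ G) (p : T ⟶ X ⊗ Q),
        lift (lift g (p ≫ fst X Q) ≫ a.act) ((g ≫ q) * (p ≫ snd X Q)) ≫ π = p ≫ π := by
  obtain ⟨Z, π, r, hπr, hπ, hsq, hf, hs, hl, ha⟩ := exists_assocBundle a (transl q) φ hcart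
  haveI := hf
  haveI := hs
  haveI := hl
  haveI := ha
  haveI : Epi π := (Over.forget S).epi_of_epi_map (inferInstanceAs (Epi π.left))
  have hrel : ∀ {T : Over S} (g : T ⟶ G) (p : T ⟶ X ⊗ Q),
      lift (lift g (p ≫ fst X Q) ≫ a.act) ((g ≫ q) * (p ≫ snd X Q)) ≫ π = p ≫ π := fun g p => by
    rw [← transl_lift, ← prod_lift, Category.assoc, hπ.w, lift_snd_assoc]
  obtain ⟨bQ, hbQ⟩ := exists_descend_action (rightTransl X Q) π fun T h x y e => by
    obtain ⟨ρ, rfl, rfl⟩ := hπ.exists_lift x y e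
    have key := hrel (ρ ≫ fst G (X ⊗ Q)) (lift h (ρ ≫ snd G (X ⊗ Q)) ≫ (rightTransl X Q).act)
    rw [← Category.assoc, ← Category.assoc (lift h (ρ ≫ snd G (X ⊗ Q))), ← key, rightTransl_lift, rightTransl_lift,
      lift_fst, lift_snd]
    have hρ : ρ = lift (ρ ≫ fst G (X ⊗ Q)) (ρ ≫ snd G (X ⊗ Q)) := (lift_comp_fst_snd ρ).symm
    conv_lhs => rw [hρ, prod_lift, transl_lift]
    simp only [lift_fst, lift_snd, _root_.mul_assoc]
  have hbQ' : ∀ {T : Over S} (h : T ⟶ Q) (p : T ⟶ X ⊗ Q),
      lift h (p ≫ π) ≫ bQ.act = lift (p ≫ fst X Q) ((p ≫ snd X Q) * h⁻¹) ≫ π := fun h p => by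
    rw [← rightTransl_lift, Category.assoc, ← hbQ, lift_whiskerLeft_assoc]
  have hinv : bQ.act ≫ r = snd Q Z ≫ r := by
    haveI : Flat (Q ◁ π).left := MorphismProperty.of_isPullback (isPullback_left (isPullback_whiskerLeft Q π)).flip hf
    haveI : Surjective (Q ◁ π).left := MorphismProperty.of_isPullback (isPullback_left (isPullback_whiskerLeft Q π)).flip hs
    haveI : LocallyOfFinitePresentation (Q ◁ π).left :=
      MorphismProperty.of_isPullback (isPullback_left (isPullback_whiskerLeft Q π)).flip hl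
    haveI : Epi (Q ◁ π) := (Over.forget S).epi_of_epi_map (inferInstanceAs (Epi (Q ◁ π).left))
    rw [← cancel_epi (Q ◁ π), reassoc_of% hbQ, whiskerLeft_snd_assoc, hπr]
    simp [rightTransl]
  have hcover : ∀ {T : Over S} (z : T ⟶ Z), ∃ (T' : Over S) (c : T' ⟶ T) (p : T' ⟶ X ⊗ Q),
      Flat c.left ∧ Surjective c.left ∧ LocallyOfFinitePresentation c.left ∧ p ≫ π = c ≫ z := fun z => by
    have hpb := (IsPullback.of_hasPullback z π).map (Over.forget S)
    exact ⟨pullback z π, pullback.fst z π, pullback.snd z π, MorphismProperty.of_isPullback hpb.flip hf,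
      MorphismProperty.of_isPullback hpb.flip hs, MorphismProperty.of_isPullback hpb.flip hl, pullback.condition.symm⟩
  have huniq : ∀ {T : Over S} (h h' : T ⟶ Q) (z : T ⟶ Z), lift h z ≫ bQ.act = lift h' z ≫ bQ.act → h = h' := by
    intro T h h' z e
    obtain ⟨T', c, p, _, _, _, hp⟩ := hcover z
    haveI : Epi c := (Over.forget S).epi_of_epi_map (inferInstanceAs (Epi c.left))
    rw [← cancel_epi c]
    have e' := congrArg (c ≫ ·) e
    simp only [comp_lift_assoc, ← hp, hbQ'] at e'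
    have := congrArg (· ≫ snd X Q) (hsq.hom_ext (by simp) e')
    simpa using this
  have hex : ∀ c : PullbackCone r r, ∃ l : c.pt ⟶ Q ⊗ Z, l ≫ bQ.act = c.fst ∧ l ≫ snd Q Z = c.snd := by
    intro c
    obtain ⟨T', e, p, _, _, _, hp⟩ := hcover c.fst
    haveI : Epi e := (Over.forget S).epi_of_epi_map (inferInstanceAs (Epi e.left))
    obtain ⟨p', hp'₁, hp'₂⟩ := hsq.exists_lift (p ≫ fst X Q) (e ≫ c.snd) (by
      rw [Category.assoc, ← hπr, reassoc_of% hp, c.condition, Category.assoc])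
    let h₀ : T' ⟶ Q := (p ≫ snd X Q)⁻¹ * (p' ≫ snd X Q)
    have hh₀ : lift h₀ (e ≫ c.snd) ≫ bQ.act = e ≫ c.fst := by
      rw [← hp'₂, hbQ', hp'₁, ← hp]
      congr 1
      rw [show (p' ≫ snd X Q) * h₀⁻¹ = p ≫ snd X Q by simp [h₀, _root_.mul_inv_rev]]
      exact lift_comp_fst_snd p
    obtain ⟨h, hh⟩ := exists_desc e h₀ fun T x y exy => huniq _ _ (x ≫ e ≫ c.snd) (by
      have hx := congrArg (x ≫ ·) hh₀
      have hy := congrArg (y ≫ ·) hh₀
      simp only [comp_lift_assoc] at hx hy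
      rw [hx, show x ≫ e ≫ c.snd = y ≫ e ≫ c.snd from (reassoc_of% exy) _, hy]
      exact (reassoc_of% exy) _)
    refine ⟨lift h c.snd, ?_, lift_snd _ _⟩
    rw [← cancel_epi e, comp_lift_assoc, hh, hh₀]
  choose l hl₁ hl₂ using hex
  have hr : IsPullback bQ.act (snd Q Z) r r :=
    ⟨⟨hinv⟩, ⟨PullbackCone.IsLimit.mk _ l hl₁ hl₂ fun c m h₁ h₂ => by
      have h₂' := h₂.trans (hl₂ c).symm
      refine CartesianMonoidalCategory.hom_ext _ _ (huniq _ _ (m ≫ snd Q Z) ?_) h₂'
      conv_rhs => rw [h₂', lift_comp_fst_snd, hl₁]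
      rw [lift_comp_fst_snd]
      exact h₁⟩⟩
  exact ⟨Z, π, r, bQ, hπr, hπ, hsq, hf, hs, hl, ha, hr, hrel⟩

variable (iN : N ⟶ G) [IsMonHom iN] [Mono iN] [Flat q.left] [Surjective q.left]
  [LocallyOfFinitePresentation q.left] [IsAffineHom q.left] (hker : AlgGrp.IsKernel iN q)

include hker hcart in
/-- A torsor factors into a torsor under the kernel and a torsor under the factor group. -/
theorem exists_factor {R : Presieve Y.left} (hR : R ∈ Scheme.fpqcPrecoverage Y.left)
    (hsec : ∀ ⦃S' : Scheme.{u}⦄ (f : S' ⟶ Y.left), R f → NonAbH1.HasSectionOver (Over.mk φ.left : Over Y.left) f) :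
    ∃ (Z : Over S) (ψ : X ⟶ Z) (r : Z ⟶ Y) (bQ : AlgGrp.Action Q Z), ψ ≫ r = φ ∧
      IsPullback (a.restrict iN).act (snd N X) ψ ψ ∧
      NonAbH1.IsLocallyTrivialFor Scheme.fpqcPrecoverage (Over.mk ψ.left : Over Z.left) ∧
      IsPullback bQ.act (snd Q Z) r r ∧
      NonAbH1.IsLocallyTrivialFor Scheme.fpqcPrecoverage (Over.mk r.left : Over Y.left) := by
  obtain ⟨Z, π, r, bQ, hπr, hπ, hsq, hf, hs, hl, ha, hr, hrel⟩ := exists_pushout q a φ hcart
  haveI := hf
  haveI := hs
  haveI := hl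
  haveI := ha
  let emb : X ⟶ X ⊗ Q := lift (𝟙 X) 1
  let ψ : X ⟶ Z := emb ≫ π
  have hψr : ψ ≫ r = φ := by simp [ψ, emb, hπr]
  have hemb : ∀ {T : Over S} (x : T ⟶ X), x ≫ emb = lift x 1 := fun x => by
    simp [emb, MonObj.comp_one]
  have hN : IsPullback (a.restrict iN).act (snd N X) ψ ψ := by
    have hact : ∀ {T : Over S} (n : T ⟶ N) (x : T ⟶ X),
        lift n x ≫ (a.restrict iN).act = lift (n ≫ iN) x ≫ a.act := fun n x => lift_whiskerRight_assoc _ _ _ _
    have hk : ∀ {T : Over S} (n : T ⟶ N), (n ≫ iN) ≫ q = 1 := fun n => by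
      rw [Category.assoc, hker.w, Hom.one_def, ← Category.assoc, toUnit_unique (n ≫ toUnit N) (toUnit _)]
    refine ⟨⟨?_⟩, ⟨PullbackCone.IsLimit.mk _
      (fun c => lift (hker.lift ((hcart.lift c.fst c.snd (by
        rw [← hψr, reassoc_of% c.condition])) ≫ fst G X) (toUnit c.pt) ?_) c.snd) ?_ ?_ ?_⟩⟩
    · have := hrel (fst N X ≫ iN) (snd N X ≫ emb)
      simp only [ψ, reassoc_of% (hemb (snd N X)), hemb, lift_fst, lift_snd, hk, _root_.one_mul] at this
      show ((iN ▷ X) ≫ a.act) ≫ ψ = _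
      rw [show (iN ▷ X) = lift (fst N X ≫ iN) (snd N X) by apply CartesianMonoidalCategory.hom_ext <;> simp]
      simp only [ψ, ← Category.assoc, hemb]
      simpa using this
    · obtain ⟨ρ, hρ₁, hρ₂⟩ := hπ.exists_lift (c.fst ≫ emb) (c.snd ≫ emb) (by
        rw [Category.assoc, Category.assoc]; exact c.condition)
      rw [← lift_comp_fst_snd ρ, hρ₂, prod_lift, transl_lift, hemb, hemb, lift_fst, lift_snd, _root_.mul_one] at hρ₁
      have e₁ : lift (ρ ≫ fst G (X ⊗ Q)) c.snd ≫ a.act = c.fst := by simpa using congrArg (· ≫ fst X Q) hρ₁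
      have e₂ : (ρ ≫ fst G (X ⊗ Q)) ≫ q = 1 := by simpa using congrArg (· ≫ snd X Q) hρ₁
      have e₃ : hcart.lift c.fst c.snd (by rw [← hψr, reassoc_of% c.condition]) = lift (ρ ≫ fst G (X ⊗ Q)) c.snd :=
        hcart.hom_ext (by rw [hcart.lift_fst, e₁]) (by rw [hcart.lift_snd, lift_snd])
      rw [e₃, lift_fst, e₂, Hom.one_def]
    · intro c
      rw [hact, hker.lift_fst, show lift (hcart.lift c.fst c.snd _ ≫ fst G X) c.snd = hcart.lift c.fst c.snd _ from
        CartesianMonoidalCategory.hom_ext _ _ (lift_fst _ _) (by rw [lift_snd, hcart.lift_snd]), hcart.lift_fst]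
    · intro c
      exact lift_snd _ _
    · intro c m h₁ h₂
      refine CartesianMonoidalCategory.hom_ext _ _ ?_ (by rw [h₂, lift_snd])
      rw [lift_fst, ← cancel_mono iN, hker.lift_fst]
      rw [← lift_comp_fst_snd m, hact, h₂] at h₁
      have : lift ((m ≫ fst N X) ≫ iN) c.snd = hcart.lift c.fst c.snd (by rw [← hψr, reassoc_of% c.condition]) :=
        hcart.hom_ext (by rw [hcart.lift_fst]; exact h₁) (by rw [hcart.lift_snd, lift_snd])
      rw [← this, lift_fst]
  refine ⟨Z, ψ, r, bQ, hψr, hN, ?_, hr, R, hR, fun S' f hf' => ?_⟩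
  · let P := pullback (snd X Q) q
    let c : P ⟶ X ⊗ Q := pullback.fst (snd X Q) q
    let g : P ⟶ G := pullback.snd (snd X Q) q
    have hpb := (IsPullback.of_hasPullback (snd X Q) q).map (Over.forget S)
    haveI : Flat c.left := MorphismProperty.of_isPullback hpb.flip ‹Flat q.left›
    haveI : Surjective c.left := MorphismProperty.of_isPullback hpb.flip ‹Surjective q.left›
    haveI : IsAffineHom c.left := MorphismProperty.of_isPullback hpb.flip ‹IsAffineHom q.left›
    refine ⟨Presieve.singleton (c ≫ π).left, ?_, ?_⟩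
    · haveI : Flat (c ≫ π).left := inferInstanceAs (Flat (c.left ≫ π.left))
      haveI : Surjective (c ≫ π).left := inferInstanceAs (Surjective (c.left ≫ π.left))
      haveI : QuasiCompact (c ≫ π).left := inferInstanceAs (QuasiCompact (c.left ≫ π.left))
      exact (c ≫ π).left.singleton_mem_fpqcPrecoverage
    intro S' f hf'
    cases hf'
    let x' : P ⟶ X := lift g⁻¹ (c ≫ fst X Q) ≫ a.act
    refine ⟨x'.left, congrArg CommaMorphism.left (show x' ≫ ψ = c ≫ π from ?_)⟩
    have key := hrel g⁻¹ c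
    rw [show (g⁻¹ ≫ q) * (c ≫ snd X Q) = 1 by
      rw [GrpObj.inv_comp, show c ≫ snd X Q = g ≫ q from pullback.condition, inv_mul_cancel]] at key
    rw [← key, ← Category.assoc, hemb]
  · obtain ⟨s, hs'⟩ := hsec f hf'
    refine ⟨s ≫ ψ.left, ?_⟩
    show (s ≫ ψ.left) ≫ r.left = f
    rw [Category.assoc, ← Over.comp_left, hψr]
    exact hs'

end Groth.Agent.AssocBdl
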