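import Groth.Agent.GrpSchLib.FaithfulAffine
import Groth.Agent.AssocBdl.Extension

/-! Affine algebraic groups embed into general linear groups. -/

set_option linter.style.haveILetI false

universe u

open CategoryTheory Limits AlgebraicGeometry MonoidalCategory CartesianMonoidalCategory MonObj GrpObj

namespace Groth.Agent.AssocBdl

open GrpSchLib GrpSchLib.Kunneth GrpSchLib.LineGroups

variable {k : Type u} [Field k]

set_option backward.isDefEq.respectTransparency false in
set_option backward.isDefEq.respectTransparency.types false in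
theorem isAffine_GLn (N : ℕ) :
    IsAffine (FrB.GLn N (Spec (CommRingCat.of k))).left ∧ LocallyOfFiniteType (FrB.GLn N (Spec (CommRingCat.of k))).hom := by
  let H : Over (Spec (CommRingCat.of k)) := FrB.GLn N (Spec (CommRingCat.of k))
  haveI : IsAffine (FrB.GLZ.{u} N).left := inferInstanceAs (IsAffine (Spec _))
  haveI : IsAffineHom (FrB.GLZ.{u} N).hom := inferInstance
  haveI : IsAffineHom H.hom := inferInstanceAs (IsAffineHom (pullback.snd _ _))
  haveI : LocallyOfFiniteType (FrB.GLZ.{u} N).hom := by
    refine (HasRingHomProperty.Spec_iff (P := @LocallyOfFiniteType)).mpr ?_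
    refine RingHom.finiteType_algebraMap.mpr ?_
    have h : Algebra.FiniteType (ULift.{u} ℤ) (MvPolynomial (CoordGrp.GLPoly.Idx N) (ULift.{u} ℤ)) := inferInstance
    exact @Algebra.FiniteType.of_surjective _ _ _ _ _ _ _ _ h (CoordGrp.GLn.mk N (ULift.{u} ℤ))
      Ideal.Quotient.mk_surjective
  exact ⟨isAffine_of_isAffineHom H.hom, inferInstanceAs (LocallyOfFiniteType (pullback.snd _ _))⟩

/-- An affine group of finite type over a field has a monomorphism into a general linear group. -/
theorem exists_embedding (G : Over (Spec (CommRingCat.of k))) [GrpObj G] [IsAffine G.left]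
    [LocallyOfFiniteType G.hom] :
    ∃ (N : ℕ) (ρ : G ⟶ FrB.GLn N (Spec (CommRingCat.of k))), IsMonHom ρ ∧ Mono ρ := by
  classical
  haveI : IsAffineHom G.hom := isAffineHom_of_isAffine G.hom
  let a : AlgGrp.Action G G := transl (𝟙 G)
  have hf : ∀ (T : Over (Spec (CommRingCat.of k))) (g : T ⟶ G),
      (∀ (T' : Over (Spec (CommRingCat.of k))) (t : T' ⟶ T) (x : T' ⟶ G), lift (t ≫ g) x ≫ a.act = x) → g = 1 := by
    intro T g h
    have h1 := h T (𝟙 T) 1
    rw [transl_lift, Category.comp_id, Category.id_comp] at h1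
    simpa using h1
  choose d M b hM hfix _hconv using fun f => ActRep.exists_stable a f
  obtain ⟨F, hF⟩ := RepFamily.exists_detect (G := G) M
  obtain ⟨N, B, hB, hBiff⟩ := RepFamily.exists_block M hM F
  let ρ : G ⟶ FrB.GLn N (Spec (CommRingCat.of k)) := hB.hom
  haveI : IsMonHom ρ := hB.isMonHom_hom
  have hker : ∀ (T : Over (Spec (CommRingCat.of k))) (g : T ⟶ G), g ≫ ρ = 1 → g = 1 := by
    intro T g hg
    refine hf T g fun T' t x => ext_ev (AlgHom.ext fun f => hfix f T' (t ≫ g) x ?_)
    have h2 : g ≫ matPt B hB.isUnit = 1 := hg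
    rw [comp_matPt] at h2
    have hm : B.map (ev g) = 1 := matPt_injective (hN := isUnit_one) (h2.trans matPt_one.symm)
    have h3 := congrArg (fun A : Matrix _ _ (Fn T) => A.map (ev t)) (hF T g ((hBiff T g).mp hm) f)
    simp only [Matrix.map_map, Matrix.map_one _ (map_zero (ev t)) (map_one (ev t))] at h3
    exact h3
  exact ⟨N, ρ, inferInstance, ⟨fun p q hpq => mul_inv_eq_one.mp
    (hker _ (p * q⁻¹) (by rw [MonObj.mul_comp, GrpObj.inv_comp, hpq, mul_inv_cancel]))⟩⟩

end Groth.Agent.AssocBdl
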