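import Groth.Agent.AssocBdl.Extension
import Groth.Agent.Deform.QuotField
import Groth.Agent.SmoothSecLib.Basic
import Groth.Agent.FlatMisc.FiniteDense
import Groth.Agent.SchTorsor.Props
import Groth.Agent.GrpSchLib.HomFlat

/-!
# Local isotriviality of torsors under affine groups over an algebraically closed field
-/

set_option autoImplicit false
set_option backward.isDefEq.respectTransparency false
set_option backward.isDefEq.respectTransparency.types false
set_option linter.style.haveILetI false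
set_option linter.unusedSectionVars false

universe u

open CategoryTheory CategoryTheory.Limits MonoidalCategory CartesianMonoidalCategory MonObj AlgebraicGeometry
open TopologicalSpace Groth.Agent.Deform

attribute [local instance] CategoryTheory.Hom.monoid CategoryTheory.Hom.group

noncomputable section

namespace Groth.Agent.AssocBdl

variable {k : Type u} [Field k] [IsAlgClosed k] {G M H : Over (Spec (CommRingCat.of k))} [GrpObj G] [GrpObj M]
  (u : G ⟶ M) [IsMonHom u] [Smooth G.hom] [LocallyOfFiniteType M.hom] [QuasiCompact M.hom]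
  (p : M ⟶ H) [Flat p.left] [Surjective p.left] [LocallyOfFinitePresentation p.left]
  [IsSeparated H.hom] [LocallyOfFiniteType H.hom]
  (hp : IsPullback ((u ▷ M) ≫ μ[M]) (snd G M) p p)

include hp in
/-- The quotient map has sections over finite étale coverings of the members of an open covering. -/
theorem exists_finEt_lift (y : H.left) :
    ∃ (U : H.left.Opens) (_ : y ∈ U) (U' : Scheme.{u}) (f : U' ⟶ ↑U) (_ : IsFinite f) (_ : Etale f)
      (_ : Surjective f) (l : U' ⟶ M.left), l ≫ p.left = f ≫ U.ι := by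
  haveI : QuasiCompact (p.left ≫ H.hom) := by rw [Over.w p]; infer_instance
  haveI : QuasiCompact p.left := QuasiCompact.of_comp p.left H.hom
  haveI : Smooth (snd G M).left := inferInstanceAs (Smooth (pullback.snd G.hom M.hom))
  haveI : Smooth p.left := MorphismProperty.of_isPullback_of_descendsAlong (P := @Smooth)
    (Q := @Surjective ⊓ @Flat ⊓ @QuasiCompact) (GITQuot.isPullback_left hp).flip
    ⟨⟨inferInstance, inferInstance⟩, inferInstance⟩ (inferInstanceAs (Smooth (snd G M).left))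
  obtain ⟨S', g, s', hS', hg, -, h, hh⟩ :=
    SmoothSecLib.exists_etale_section_scheme p.left ((η[M] : 𝟙_ _ ⟶ M).left (IsLocalRing.closedPoint k))
  haveI : LocallyOfFiniteType g := inferInstance
  haveI : QuasiCompact (g ≫ H.hom) := inferInstance
  haveI : QuasiCompact g := QuasiCompact.of_comp g H.hom
  obtain ⟨Ud, hUd, hfin⟩ := FlatMisc.FiniteDense.exists_dense_isFinite g
  have hr : IsOpen (Set.range g) := g.isOpenMap.isOpen_range
  let U0 : H.left.Opens := Ud ⊓ ⟨Set.range g, hr⟩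
  obtain ⟨u0, hu0r, hu0d⟩ := hUd.inter_open_nonempty _ hr ⟨g s', s', rfl⟩
  have hu0 : u0 ∈ U0 := ⟨hu0d, hu0r⟩
  haveI : IsFinite (g ∣_ U0) := by
    have hle : U0 ≤ Ud := inf_le_left
    have hsq : IsPullback (g ∣_ U0) ((S').homOfLE (g.preimage_mono hle)) (H.left.homOfLE hle) (g ∣_ Ud) := by
      refine IsPullback.of_bot ?_ ?_ (isPullback_morphismRestrict g Ud)
      · simpa using isPullback_morphismRestrict g U0
      · rw [← cancel_mono Ud.ι]; simp
    exact MorphismProperty.of_isPullback hsq.flip hfin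
  haveI : Surjective (g ∣_ U0) := ⟨fun z => by
    obtain ⟨z', hz'⟩ := z.2.2
    refine ⟨⟨z', show g z' ∈ U0 from hz' ▸ z.2⟩, U0.ι.isOpenEmbedding.injective ?_⟩
    rw [← Scheme.Hom.comp_apply, morphismRestrict_ι, Scheme.Hom.comp_apply]
    exact hz'⟩
  haveI : Etale (g ∣_ U0) := IsZariskiLocalAtTarget.restrict hg U0
  let P0 : Over (Spec (CommRingCat.of k)) := Over.mk (Spec.map (CommRingCat.ofHom (algebraMap k k)))
  haveI : IsIso P0.hom := by
    show IsIso (Spec.map (CommRingCat.ofHom (RingHom.id k)))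
    rw [CommRingCat.ofHom_id, Spec.map_id]; infer_instance
  haveI : JacobsonSpace H.left := LocallyOfFiniteType.jacobsonSpace H.hom
  haveI : LocallyOfFiniteType p.left := inferInstance
  -- a closed point of `U0` and one near `y`
  obtain ⟨u1, hu1, hu1c⟩ := nonempty_inter_closedPoints (Z := (U0 : Set H.left)) ⟨u0, hu0⟩ U0.2.isLocallyClosed
  obtain ⟨y', hy', hy'c⟩ := nonempty_inter_closedPoints (Z := closure {y}) ⟨y, subset_closure rfl⟩
    isClosed_closure.isLocallyClosed
  have hpt : ∀ (z : H.left), IsClosed ({z} : Set H.left) → ∃ zM : P0 ⟶ M, (zM ≫ p).left (IsLocalRing.closedPoint k) = z := by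
    intro z hz
    let zH := (pointEquivClosedPoint H.hom).symm ⟨z, hz⟩
    let z0 : P0 ⟶ H := Over.homMk zH.1 (by
      show zH.1 ≫ H.hom = Spec.map (CommRingCat.ofHom (RingHom.id k))
      rw [zH.2, CommRingCat.ofHom_id, Spec.map_id])
    obtain ⟨zM, hzM⟩ := GrpSchLib.exists_point_lift p z0
    refine ⟨zM, ?_⟩
    rw [hzM]
    exact congrArg Subtype.val ((pointEquivClosedPoint H.hom).apply_symm_apply ⟨z, hz⟩)
  obtain ⟨zy, hzy⟩ := hpt y' hy'c
  obtain ⟨zu, hzu⟩ := hpt u1 hu1c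
  let cst : ∀ (T : Over (Spec (CommRingCat.of k))), (P0 ⟶ M) → (T ⟶ M) := fun T x =>
    (Over.homMk (T.hom ≫ inv P0.hom) (by simp) : T ⟶ P0) ≫ x
  have hcst : ∀ {T T' : Over (Spec (CommRingCat.of k))} (f : T' ⟶ T) (x : P0 ⟶ M), f ≫ cst T x = cst T' x := by
    intro T T' f x
    show f ≫ _ ≫ x = _ ≫ x
    rw [← Category.assoc]
    congr 1
    exact Over.OverMorphism.ext (show f.left ≫ T.hom ≫ inv P0.hom = T'.hom ≫ inv P0.hom by rw [← Category.assoc, Over.w f])
  have hcst0 : ∀ x : P0 ⟶ M, cst P0 x = x := fun x => by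
    show _ ≫ x = x
    convert Category.id_comp x
    exact Over.OverMorphism.ext (IsIso.hom_inv_id _)
  haveI : Epi p := (Over.forget _).epi_of_epi_map (inferInstanceAs (Epi p.left))
  have htau : ∀ c : P0 ⟶ M, ∃ τ : H ⟶ H, p ≫ τ = (𝟙 M * cst M c) ≫ p := fun c =>
    exists_desc p _ fun T a b hab => by
      obtain ⟨ρ, rfl, rfl⟩ := hp.exists_lift a b hab
      have e : lift ((ρ ≫ fst G M)) ((ρ ≫ snd G M) * cst T c) ≫ ((u ▷ M) ≫ μ[M]) =
          (ρ ≫ (u ▷ M) ≫ μ[M]) * cst T c := by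
        rw [lift_whiskerRight_assoc, ← Hom.mul_def, ← _root_.mul_assoc]
        congr 1
        conv_rhs => rw [← lift_comp_fst_snd ρ, lift_whiskerRight_assoc, ← Hom.mul_def]
      have ha : ∀ w : T ⟶ M, w ≫ (𝟙 M * cst M c) ≫ p = (w * cst T c) ≫ p := fun w => by
        rw [← Category.assoc, MonObj.comp_mul, Category.comp_id, hcst]
      rw [ha, ha, ← e, Category.assoc, hp.w, lift_snd_assoc]
  obtain ⟨τ, hτ⟩ := htau (zy⁻¹ * zu)
  obtain ⟨τ', hτ'⟩ := htau (zu⁻¹ * zy)
  have hc : ∀ (T : Over (Spec (CommRingCat.of k))) (x x' : P0 ⟶ M), cst T (x * x') = cst T x * cst T x' :=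
    fun T x x' => MonObj.comp_mul _ _ _
  have hττ : τ ≫ τ' = 𝟙 H := by
    rw [← cancel_epi p, reassoc_of% hτ, hτ', Category.comp_id, ← Category.assoc, MonObj.comp_mul, Category.comp_id,
      hcst, _root_.mul_assoc, ← hc, show zy⁻¹ * zu * (zu⁻¹ * zy) = 1 by group, show cst M 1 = 1 from MonObj.comp_one _,
      _root_.mul_one, Category.id_comp]
  have hτy : τ.left y' = u1 := by
    have e : (zy ≫ p) ≫ τ = zu ≫ p := by
      rw [Category.assoc, hτ, ← Category.assoc, MonObj.comp_mul, Category.comp_id, hcst, hcst0, mul_inv_cancel_left]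
    rw [← hzy, ← hzu, ← e]
    rfl
  refine ⟨τ.left ⁻¹ᵁ U0, (specializes_iff_mem_closure.2 hy').mem_open (τ.left ⁻¹ᵁ U0).2 (show τ.left y' ∈ U0 by rw [hτy]; exact hu1),
    pullback (g ∣_ U0) (τ.left ∣_ U0), pullback.snd _ _, inferInstance, inferInstance, inferInstance, ?_⟩
  let l₀ : pullback (g ∣_ U0) (τ.left ∣_ U0) ⟶ M.left := pullback.fst _ _ ≫ (g ⁻¹ᵁ U0).ι ≫ h
  let T : Over (Spec (CommRingCat.of k)) := Over.mk (l₀ ≫ M.hom)
  let lO : T ⟶ M := Over.homMk l₀ rfl
  refine ⟨(lO * cst T (zu⁻¹ * zy)).left, ?_⟩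
  have e : (lO * cst T (zu⁻¹ * zy)) ≫ p = lO ≫ p ≫ τ' := by
    rw [hτ', ← Category.assoc, MonObj.comp_mul, Category.comp_id, hcst]
  have e' : (lO * cst T (zu⁻¹ * zy)).left ≫ p.left = l₀ ≫ p.left ≫ τ'.left := congrArg CommaMorphism.left e
  rw [e']
  simp only [l₀, Category.assoc, reassoc_of% hh, ← morphismRestrict_ι_assoc, pullback.condition_assoc]
  rw [morphismRestrict_ι_assoc, ← Over.comp_left, hττ]
  simp

variable {X Y : Over (Spec (CommRingCat.of k))} (a : AlgGrp.Action G X) (φ : X ⟶ Y)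
  (hcart : IsPullback a.act (snd G X) φ φ) [IsAffineHom φ.left] [Flat φ.left] [Surjective φ.left]
  [LocallyOfFinitePresentation φ.left] [IsAffineHom M.hom] [Mono u]

include hp hcart in
/-- A torsor whose extension to `M` is Zariski locally trivial is locally isotrivial. -/
theorem exists_finEt_section
    (hM : ∀ (Z : Over (Spec (CommRingCat.of k))) (b : AlgGrp.Action M Z) (r : Z ⟶ Y),
      IsPullback b.act (snd M Z) r r →
      NonAbH1.IsLocallyTrivialFor Scheme.fpqcPrecoverage (Over.mk r.left : Over Y.left) →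
      NonAbH1.IsLocallyTrivialFor Scheme.zariskiPrecoverage (Over.mk r.left : Over Y.left))
    (hloc : NonAbH1.IsLocallyTrivialFor Scheme.fpqcPrecoverage (Over.mk φ.left : Over Y.left)) (y : Y.left) :
    ∃ (U : Y.left.Opens) (_ : y ∈ U) (U' : Scheme.{u}) (f : U' ⟶ ↑U)
      (_ : IsFinite f) (_ : Etale f) (_ : Surjective f),
      NonAbH1.HasSectionOver (Over.mk φ.left : Over Y.left) (f ≫ U.ι) := by
  obtain ⟨Z, π, r, bQ, hπr, hπ, hsq, hf, hs, hl, ha, hr, hrel⟩ := exists_pushout u a φ hcart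
  haveI := hf
  haveI := hs
  haveI := hl
  haveI := ha
  haveI : Epi π := (Over.forget _).epi_of_epi_map (inferInstanceAs (Epi π.left))
  have hrloc : NonAbH1.IsLocallyTrivialFor Scheme.fpqcPrecoverage (Over.mk r.left : Over Y.left) := by
    obtain ⟨R, hR, hsec⟩ := hloc
    refine ⟨R, hR, fun S' f hf' => ?_⟩
    obtain ⟨s, hs'⟩ := hsec f hf'
    refine ⟨s ≫ (lift (𝟙 X) (1 : X ⟶ M) ≫ π).left, ?_⟩
    show (s ≫ _) ≫ r.left = f
    rw [Category.assoc, ← Over.comp_left, Category.assoc, hπr, lift_fst_assoc, Category.id_comp]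
    exact hs'
  -- the classifying map
  have hu : ∀ {T : Over (Spec (CommRingCat.of k))} (g : T ⟶ G) (m : T ⟶ M), ((g ≫ u) * m) ≫ p = m ≫ p := by
    intro T g m
    have : lift g m ≫ (u ▷ M) ≫ μ[M] = (g ≫ u) * m := by rw [lift_whiskerRight_assoc, ← Hom.mul_def]
    rw [← this, Category.assoc, hp.w, lift_snd_assoc]
  obtain ⟨m, hm⟩ := exists_desc π (snd X M ≫ p) fun T c c' hcc => by
    obtain ⟨ρ, rfl, rfl⟩ := hπ.exists_lift c c' hcc
    have : (ρ ≫ (a.prod (transl u)).act) ≫ snd X M = (ρ ≫ fst G _) ≫ u * ((ρ ≫ snd G _) ≫ snd X M) := by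
      conv_lhs => rw [← lift_comp_fst_snd ρ, prod_lift, lift_snd, transl_lift]
    rw [← Category.assoc, ← Category.assoc (ρ ≫ snd G _), this, hu]
  have hlift : ∀ {T : Over (Spec (CommRingCat.of k))} (z : T ⟶ Z) (t : T ⟶ M), t ≫ p = z ≫ m →
      ∃ x : T ⟶ X, x ≫ φ = z ≫ r := by
    intro T z t htz
    let c := pullback.fst z π
    let l₀ := pullback.snd z π
    have hpb := (IsPullback.of_hasPullback z π).map (Over.forget _)
    haveI : Flat c.left := MorphismProperty.of_isPullback hpb.flip hf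
    haveI : Surjective c.left := MorphismProperty.of_isPullback hpb.flip hs
    haveI : LocallyOfFinitePresentation c.left := MorphismProperty.of_isPullback hpb.flip hl
    haveI : Epi c := (Over.forget _).epi_of_epi_map (inferInstanceAs (Epi c.left))
    have hl₀ : l₀ ≫ π = c ≫ z := pullback.condition.symm
    obtain ⟨ρ, hρ₁, hρ₂⟩ := hp.exists_lift (c ≫ t) (l₀ ≫ snd X M) (by
      rw [Category.assoc, Category.assoc, htz, ← hm, reassoc_of% hl₀])
    let g := ρ ≫ fst G M
    have hgt : (g ≫ u) * (l₀ ≫ snd X M) = c ≫ t := by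
      rw [← hρ₁, ← hρ₂]
      conv_rhs => rw [← lift_comp_fst_snd ρ, lift_whiskerRight_assoc, ← Hom.mul_def]
    let l := lift (lift g (l₀ ≫ fst X M) ≫ a.act) (c ≫ t)
    have hl₁ : l ≫ π = c ≫ z := by
      simp only [l, ← hgt]
      rw [hrel, hl₀]
    obtain ⟨n, hn⟩ := exists_desc c l fun T' e e' hee => by
      obtain ⟨σ, hσ₁, hσ₂⟩ := hπ.exists_lift (e ≫ l) (e' ≫ l) (by
        rw [Category.assoc, Category.assoc, hl₁, reassoc_of% hee])
      have h2 := congrArg (· ≫ snd X M) hσ₁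
      simp only [← hσ₂] at hσ₁ ⊢
      rw [← lift_comp_fst_snd σ, prod_lift, transl_lift] at h2
      simp only [lift_fst, lift_snd, hσ₂, Category.assoc, l] at h2
      rw [(reassoc_of% hee) t] at h2
      have hg : σ ≫ fst G _ = 1 := by
        rw [← cancel_mono u, MonObj.one_comp]
        simpa using h2
      rw [← hσ₁, ← lift_comp_fst_snd σ, hg, lift_snd]
      exact SchTorsor.one_act_pt _ _
    refine ⟨n ≫ fst X M, ?_⟩
    rw [← cancel_epi c, ← Category.assoc c, ← Category.assoc c, hn, Category.assoc, ← hπr, reassoc_of% hl₁]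
  obtain ⟨R₁, hR₁, hs₁⟩ := hM Z bQ r hr hrloc
  obtain ⟨I, V, v, rfl⟩ := R₁.exists_eq_ofArrows
  obtain ⟨hV, hv⟩ := (Scheme.ofArrows_mem_precoverage_iff _).1 hR₁
  obtain ⟨i, v0, hv0⟩ := hV y
  haveI := hv i
  obtain ⟨s, hs'⟩ := hs₁ (v i) (.mk i)
  change s ≫ r.left = v i at hs'
  obtain ⟨U, hU, U', f, hf₁, hf₂, hf₃, l, hl'⟩ := exists_finEt_lift u p hp (m.left (s v0))
  let O : (V i).Opens := (s ≫ m.left) ⁻¹ᵁ U
  let e : O.toScheme ≅ (v i ''ᵁ O).toScheme := (v i).isoImage O
  refine ⟨v i ''ᵁ O, ⟨v0, show (s ≫ m.left) v0 ∈ U by rw [Scheme.Hom.comp_apply]; exact hU, hv0⟩,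
    pullback f ((s ≫ m.left) ∣_ U), pullback.snd _ _ ≫ e.hom, inferInstance, inferInstance, inferInstance, ?_⟩
  let w : pullback f ((s ≫ m.left) ∣_ U) ⟶ V i := pullback.snd _ _ ≫ O.ι
  let T : Over (Spec (CommRingCat.of k)) := Over.mk ((w ≫ v i) ≫ Y.hom)
  let z : T ⟶ Z := Over.homMk (w ≫ s) (by
    show (w ≫ s) ≫ Z.hom = (w ≫ v i) ≫ Y.hom
    rw [← hs', ← Over.w r]
    simp only [Category.assoc])
  have htm : (pullback.fst f ((s ≫ m.left) ∣_ U) ≫ l) ≫ p.left = (w ≫ s) ≫ m.left := by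
    simp only [w, Category.assoc, hl', pullback.condition_assoc, morphismRestrict_ι]
    rfl
  let t : T ⟶ M := Over.homMk (pullback.fst f ((s ≫ m.left) ∣_ U) ≫ l) (by
    have h1 := congrArg (· ≫ H.hom) htm
    simp only [Category.assoc, Over.w p, Over.w m] at h1
    rw [Category.assoc]
    exact h1.trans ((Category.assoc _ _ _).symm.trans (Over.w z)))
  obtain ⟨x, hx⟩ := hlift z t (Over.OverMorphism.ext htm)
  refine ⟨x.left, ?_⟩
  show x.left ≫ φ.left = _
  rw [← Over.comp_left, hx]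
  show (w ≫ s) ≫ r.left = (pullback.snd _ _ ≫ e.hom) ≫ (v i ''ᵁ O).ι
  rw [Category.assoc, hs', Category.assoc, Category.assoc, show e.hom ≫ (v i ''ᵁ O).ι = O.ι ≫ v i from Scheme.Hom.isoImage_hom_ι _ _]

end Groth.Agent.AssocBdl
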