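import Groth.Prelude.Def_ChGrp
import Groth.Agent.DescLib.AffineDesc
import Groth.Agent.GrpdThick.GlueFppf
import Groth.Agent.AlgSpDec.ActGroupoid
import Groth.Agent.GITQuot.BaseChange
import Groth.Agent.SrcDescent.SchemeFppf
import Mathlib.AlgebraicGeometry.Sites.Fpqc

/-!
# Associated bundles with affine fibre

For a torsor `φ : X → Y` with `φ` affine and fppf and an affine `F` with an action, the diagonal action
on `X ⊗ F` has an fppf quotient over `Y`: over an affine open of `Y` this is effective descent of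
affine schemes.
-/

set_option autoImplicit false
set_option backward.isDefEq.respectTransparency false
set_option backward.isDefEq.respectTransparency.types false
set_option linter.style.haveILetI false

universe u

open CategoryTheory CategoryTheory.Limits MonoidalCategory CartesianMonoidalCategory MonObj AlgebraicGeometry
open Groth.Agent.GITQuot Groth.Agent.GrpdLib Desc
open Groth.Agent.AlgSpDec (ActGroupoid.gpd)

noncomputable section

namespace Groth.Agent.AssocBdl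

variable {S : Scheme.{u}} {G X Y F : Over S} [GrpObj G] (a : AlgGrp.Action G X) (b : AlgGrp.Action G F)
  (φ : X ⟶ Y) (hcart : IsPullback a.act (snd G X) φ φ)

theorem act_fst : (a.prod b).act ≫ fst X F = (G ◁ fst X F) ≫ a.act := by
  simp [AlgGrp.Action.prod]

include hcart

theorem cart₂ : IsPullback ((G ◁ fst X F) ≫ a.act) (snd G (X ⊗ F)) φ (fst X F ≫ φ) :=
  (isPullback_tensorLeft (fst X F)).paste_horiz hcart

theorem act_base : (a.prod b).act ≫ fst X F ≫ φ = snd G (X ⊗ F) ≫ fst X F ≫ φ := by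
  rw [reassoc_of% act_fst a b, ← (cart₂ a φ hcart).w, Category.assoc]

theorem arr_ext {T : Scheme.{u}} (r r' : T ⟶ (G ⊗ (X ⊗ F)).left)
    (h₁ : r ≫ (a.prod b).act.left ≫ (fst X F).left = r' ≫ (a.prod b).act.left ≫ (fst X F).left)
    (h₂ : r ≫ (snd G (X ⊗ F)).left = r' ≫ (snd G (X ⊗ F)).left) : r = r' := by
  refine (isPullback_left (cart₂ a φ hcart (F := F))).hom_ext ?_ h₂
  rw [← act_fst a b]
  simpa using h₁

theorem exists_arr {T : Scheme.{u}} (x : T ⟶ X.left) (v : T ⟶ (X ⊗ F).left)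
    (h : x ≫ φ.left = v ≫ (fst X F).left ≫ φ.left) :
    ∃ r : T ⟶ (G ⊗ (X ⊗ F)).left, r ≫ (snd G (X ⊗ F)).left = v ∧
      r ≫ (a.prod b).act.left ≫ (fst X F).left = x := by
  exact ⟨(isPullback_left (cart₂ a φ hcart (F := F))).lift x v h,
    (isPullback_left (cart₂ a φ hcart (F := F))).lift_snd _ _ _,
    (congrArg (_ ≫ ·) (congrArg CommaMorphism.left (act_fst a b))).trans
      ((isPullback_left (cart₂ a φ hcart (F := F))).lift_fst _ _ _)⟩

theorem arr_self {T : Scheme.{u}} (r : T ⟶ (G ⊗ (X ⊗ F)).left)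
    (h : r ≫ (a.prod b).act.left ≫ (fst X F).left = r ≫ (snd G (X ⊗ F)).left ≫ (fst X F).left) :
    r ≫ (a.prod b).act.left = r ≫ (snd G (X ⊗ F)).left := by
  have e₁ : (AlgSpDec.ActGroupoid.idMor (G := G) (X ⊗ F)).left ≫ (snd G (X ⊗ F)).left = 𝟙 _ :=
    congrArg CommaMorphism.left (AlgSpDec.ActGroupoid.idMor_snd (G := G) (X := X ⊗ F))
  have e₂ : (AlgSpDec.ActGroupoid.idMor (G := G) (X ⊗ F)).left ≫ (a.prod b).act.left = 𝟙 _ :=
    congrArg CommaMorphism.left (AlgSpDec.ActGroupoid.idMor_act (a.prod b))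
  have := arr_ext a b φ hcart r (r ≫ (snd G (X ⊗ F)).left ≫ (AlgSpDec.ActGroupoid.idMor (G := G) (X ⊗ F)).left)
    (by simp only [Category.assoc, reassoc_of% e₂, h]) (by simp only [Category.assoc, e₁, Category.comp_id])
  conv_lhs => rw [this]
  simp only [Category.assoc, e₂, Category.comp_id]

theorem arr_comp {T : Scheme.{u}} (r r' r'' : T ⟶ (G ⊗ (X ⊗ F)).left)
    (h : r' ≫ (snd G (X ⊗ F)).left = r ≫ (a.prod b).act.left)
    (h₂ : r'' ≫ (snd G (X ⊗ F)).left = r ≫ (snd G (X ⊗ F)).left)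
    (h₁ : r'' ≫ (a.prod b).act.left ≫ (fst X F).left = r' ≫ (a.prod b).act.left ≫ (fst X F).left) :
    r'' ≫ (a.prod b).act.left = r' ≫ (a.prod b).act.left := by
  let To : Over S := Over.mk (r ≫ (G ⊗ (X ⊗ F)).hom)
  have hw : r' ≫ (G ⊗ (X ⊗ F)).hom = r ≫ (G ⊗ (X ⊗ F)).hom := by
    calc r' ≫ (G ⊗ (X ⊗ F)).hom = r' ≫ (snd G (X ⊗ F)).left ≫ (X ⊗ F).hom := by rw [Over.w]
      _ = r ≫ (a.prod b).act.left ≫ (X ⊗ F).hom := by rw [reassoc_of% h]
      _ = r ≫ (G ⊗ (X ⊗ F)).hom := by rw [Over.w]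
  let α : To ⟶ G ⊗ (X ⊗ F) := Over.homMk r' hw
  let β : To ⟶ G ⊗ (X ⊗ F) := Over.homMk r rfl
  have ha := congrArg CommaMorphism.left
    (AlgSpDec.ActGroupoid.op_act (a.prod b) α β (Over.OverMorphism.ext h))
  have hs := congrArg CommaMorphism.left (AlgSpDec.ActGroupoid.op_snd α β)
  simp only [Over.comp_left] at ha hs
  have : r'' = (AlgSpDec.ActGroupoid.op α β).left := arr_ext a b φ hcart _ _
    (h₁.trans ((reassoc_of% ha) _).symm) (h₂.trans hs.symm)
  rw [this]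
  exact ha

omit hcart

variable (V : Y.left.Opens)

/-- The part of `X` over an open of `Y`. -/
abbrev PX : X.left.Opens := φ.left ⁻¹ᵁ V

/-- The part of `X ⊗ F` over an open of `Y`. -/
abbrev WXF : (X ⊗ F).left.Opens := (fst X F).left ⁻¹ᵁ PX φ V

/-- The part of `X ⊗ F` over the part of `X`. -/
abbrev objW : Over (PX φ V).toScheme := Over.mk ((fst X F).left ∣_ PX φ V)

include hcart

theorem exists_move {T : Scheme.{u}} (x₀ x₁ : T ⟶ (PX φ V).toScheme)
    (h : x₀ ≫ φ.left ∣_ V = x₁ ≫ φ.left ∣_ V) (v : Lifts (objW (F := F) φ V) x₀) :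
    ∃ (w : Lifts (objW (F := F) φ V) x₁) (r : T ⟶ (G ⊗ (X ⊗ F)).left),
      r ≫ (snd G (X ⊗ F)).left = v.1 ≫ (WXF φ V).ι ∧ r ≫ (a.prod b).act.left = w.1 ≫ (WXF φ V).ι := by
  have e : v.1 ≫ (fst X F).left ∣_ PX φ V = x₀ := v.2
  have hb : (x₁ ≫ (PX φ V).ι) ≫ φ.left = (v.1 ≫ (WXF φ V).ι) ≫ (fst X F).left ≫ φ.left := by
    have h' := congrArg (· ≫ V.ι) h
    simp only [Category.assoc, morphismRestrict_ι] at h'
    refine (Category.assoc _ _ _).trans (h'.symm.trans ?_)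
    have e' := congrArg (· ≫ (PX φ V).ι ≫ φ.left) e
    simp only [Category.assoc, morphismRestrict_ι_assoc] at e' ⊢
    exact e'.symm
  obtain ⟨r, hs, ht⟩ := exists_arr a b φ hcart _ _ hb
  have hl := isPullback_morphismRestrict (fst X F).left (PX φ V)
  refine ⟨⟨hl.lift x₁ (r ≫ (a.prod b).act.left) (by rw [Category.assoc, ht]), hl.lift_fst _ _ _⟩, r, hs, ?_⟩
  exact (hl.lift_snd _ _ _).symm

/-- Moving a point along the torsor. -/
def move {T : Scheme.{u}} (x₀ x₁ : T ⟶ (PX φ V).toScheme)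
    (h : x₀ ≫ φ.left ∣_ V = x₁ ≫ φ.left ∣_ V) (v : Lifts (objW (F := F) φ V) x₀) :
    Lifts (objW (F := F) φ V) x₁ :=
  (exists_move a b φ hcart V x₀ x₁ h v).choose

theorem move_spec {T : Scheme.{u}} (x₀ x₁ : T ⟶ (PX φ V).toScheme)
    (h : x₀ ≫ φ.left ∣_ V = x₁ ≫ φ.left ∣_ V) (v : Lifts (objW (F := F) φ V) x₀) :
    ∃ r : T ⟶ (G ⊗ (X ⊗ F)).left, r ≫ (snd G (X ⊗ F)).left = v.1 ≫ (WXF φ V).ι ∧
      r ≫ (a.prod b).act.left = (move a b φ hcart V x₀ x₁ h v).1 ≫ (WXF φ V).ι :=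
  (exists_move a b φ hcart V x₀ x₁ h v).choose_spec

theorem lift_fst_eq {T : Scheme.{u}} {x : T ⟶ (PX φ V).toScheme} (v : Lifts (objW (F := F) φ V) x) :
    (v.1 ≫ (WXF φ V).ι) ≫ (fst X F).left = x ≫ (PX φ V).ι := by
  rw [Category.assoc, ← morphismRestrict_ι, ← Category.assoc]
  exact congrArg (· ≫ (PX φ V).ι) v.2

theorem move_self {T : Scheme.{u}} (x : T ⟶ (PX φ V).toScheme) (v : Lifts (objW (F := F) φ V) x) :
    move a b φ hcart V x x rfl v = v := by
  obtain ⟨r, hs, ht⟩ := move_spec a b φ hcart V x x rfl v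
  refine Subtype.ext ((cancel_mono (WXF φ V).ι).1 ?_)
  rw [← ht, ← hs]
  refine arr_self a b φ hcart r ?_
  rw [reassoc_of% ht, reassoc_of% hs, ← Category.assoc, lift_fst_eq a φ hcart V, ← Category.assoc,
    lift_fst_eq a φ hcart V]

theorem move_comp {T : Scheme.{u}} (x₀ x₁ x₂ : T ⟶ (PX φ V).toScheme)
    (h₀₁ : x₀ ≫ φ.left ∣_ V = x₁ ≫ φ.left ∣_ V) (h₁₂ : x₁ ≫ φ.left ∣_ V = x₂ ≫ φ.left ∣_ V)
    (v : Lifts (objW (F := F) φ V) x₀) :
    move a b φ hcart V x₁ x₂ h₁₂ (move a b φ hcart V x₀ x₁ h₀₁ v) =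
      move a b φ hcart V x₀ x₂ (h₀₁.trans h₁₂) v := by
  obtain ⟨r, hs, ht⟩ := move_spec a b φ hcart V x₀ x₁ h₀₁ v
  obtain ⟨r', hs', ht'⟩ := move_spec a b φ hcart V x₁ x₂ h₁₂ (move a b φ hcart V x₀ x₁ h₀₁ v)
  obtain ⟨r'', hs'', ht''⟩ := move_spec a b φ hcart V x₀ x₂ (h₀₁.trans h₁₂) v
  refine Subtype.ext ((cancel_mono (WXF φ V).ι).1 ?_)
  rw [← ht', ← ht'']
  refine (arr_comp a b φ hcart r r' r'' (hs'.trans ht.symm) (hs''.trans hs.symm) ?_).symm
  rw [reassoc_of% ht'', reassoc_of% ht', ← Category.assoc, lift_fst_eq a φ hcart V, ← Category.assoc,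
    lift_fst_eq a φ hcart V]

theorem move_natural {T T' : Scheme.{u}} (g : T' ⟶ T) (x₀ x₁ : T ⟶ (PX φ V).toScheme)
    (h : x₀ ≫ φ.left ∣_ V = x₁ ≫ φ.left ∣_ V) (h' : (g ≫ x₀) ≫ φ.left ∣_ V = (g ≫ x₁) ≫ φ.left ∣_ V)
    (v : Lifts (objW (F := F) φ V) x₀) (v' : Lifts (objW (F := F) φ V) (g ≫ x₀)) (hv : v'.1 = g ≫ v.1) :
    (move a b φ hcart V (g ≫ x₀) (g ≫ x₁) h' v').1 = g ≫ (move a b φ hcart V x₀ x₁ h v).1 := by
  obtain ⟨r, hs, ht⟩ := move_spec a b φ hcart V x₀ x₁ h v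
  obtain ⟨r', hs', ht'⟩ := move_spec a b φ hcart V _ _ h' v'
  refine (cancel_mono (WXF φ V).ι).1 ?_
  rw [Category.assoc, ← ht, ← ht']
  have : r' = g ≫ r := arr_ext a b φ hcart _ _
    (by
      rw [Category.assoc g r, reassoc_of% ht', reassoc_of% ht, ← Category.assoc, lift_fst_eq a φ hcart V,
        ← Category.assoc (Subtype.val _), lift_fst_eq a φ hcart V, Category.assoc])
    (by rw [hs', Category.assoc, hs, hv, Category.assoc])
  rw [this, Category.assoc]

/-- The descent datum of the twisted product over an open of `Y`. -/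
def dd : SchDD (φ.left ∣_ V) where
  obj := objW (F := F) φ V
  φ _ x₀ x₁ h :=
    { toFun := move a b φ hcart V x₀ x₁ h
      invFun := move a b φ hcart V x₁ x₀ h.symm
      left_inv := fun v => by rw [move_comp, move_self]
      right_inv := fun v => by rw [move_comp, move_self] }
  φ_natural _ _ g x₀ x₁ h h' v v' hv := move_natural a b φ hcart V g x₀ x₁ h h' v v' hv
  φ_self _ x v := move_self a b φ hcart V x v
  φ_comp _ x₀ x₁ x₂ h₀₁ h₁₂ v := move_comp a b φ hcart V x₀ x₁ x₂ h₀₁ h₁₂ v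

theorem mono_j : Mono (ActGroupoid.gpd (a.prod b)).j := by
  refine ⟨fun {T} r r' h => arr_ext a b φ hcart r r' ?_ ?_⟩
  · have := congrArg (fun f => f ≫ pullback.fst _ _) h
    simp only [Category.assoc, Grpd.GroupoidScheme.j, pullback.lift_fst] at this
    exact (reassoc_of% (show r ≫ (a.prod b).act.left = r' ≫ (a.prod b).act.left from this)) _
  · have := congrArg (fun f => f ≫ pullback.snd _ _) h
    simp only [Category.assoc, Grpd.GroupoidScheme.j, pullback.lift_snd] at this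
    exact this

theorem isInv : IsInv (ActGroupoid.gpd (a.prod b)) (WXF φ V) := by
  refine isInv_of_mem fun r hr => ?_
  show φ.left ((fst X F).left ((a.prod b).act.left r)) ∈ V
  have := congrArg (fun f => f.left r) (act_base a b φ hcart)
  simp only [Over.comp_left, Scheme.Hom.comp_apply] at this
  rw [this]
  exact hr

variable [IsAffineHom φ.left] [Flat φ.left] [Surjective φ.left] [LocallyOfFinitePresentation φ.left]
  [IsAffineHom F.hom]

theorem exists_quotData_affine (hV : IsAffineOpen V) :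
    Nonempty (GrpdThick.QuotData (ActGroupoid.gpd (a.prod b)) (WXF φ V)) := by
  haveI : IsAffine V.toScheme := hV
  haveI : IsAffine (PX φ V).toScheme := hV.preimage φ.left
  haveI : IsAffineHom (fst X F).left := MorphismProperty.pullback_fst (P := @IsAffineHom) X.hom F.hom ‹_›
  haveI : IsAffine (dd a b φ hcart V).obj.left := (hV.preimage φ.left).preimage (fst X F).left
  haveI : Flat (φ.left ∣_ V) := IsZariskiLocalAtTarget.restrict ‹_› V
  haveI : Surjective (φ.left ∣_ V) := IsZariskiLocalAtTarget.restrict ‹_› V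
  haveI : LocallyOfFinitePresentation (φ.left ∣_ V) := IsZariskiLocalAtTarget.restrict ‹_› V
  obtain ⟨U, ⟨e⟩⟩ := DescLib.effective_affine (φ.left ∣_ V) (dd a b φ hcart V)
  let hm : (canonicalDD (φ.left ∣_ V) U).obj ⟶ (dd a b φ hcart V).obj := e.hom.hom
  let hi : (dd a b φ hcart V).obj ⟶ (canonicalDD (φ.left ∣_ V) U).obj := e.inv.hom
  have hhi : hm ≫ hi = 𝟙 _ := congrArg SchDD.Hom.hom e.hom_inv_id
  have hih : hi ≫ hm = 𝟙 _ := congrArg SchDD.Hom.hom e.inv_hom_id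
  let θ : (WXF (F := F) φ V).toScheme ⟶ pullback (φ.left ∣_ V) U.hom := hi.left
  have hθ₁ : θ ≫ pullback.fst _ _ = (fst X F).left ∣_ PX φ V := Over.w hi
  haveI : IsIso θ := ⟨hm.left, congrArg CommaMorphism.left hih, congrArg CommaMorphism.left hhi⟩
  let π : (WXF (F := F) φ V).toScheme ⟶ U.left := θ ≫ pullback.snd _ _
  haveI : Flat π := inferInstance
  haveI : Surjective π := inferInstance
  haveI : LocallyOfFinitePresentation π := inferInstance
  -- the equivariance of `θ`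
  have hθ₂ : ∀ {T : Scheme.{u}} (x₀ x₁ : T ⟶ (PX φ V).toScheme) (h : x₀ ≫ φ.left ∣_ V = x₁ ≫ φ.left ∣_ V)
      (v : Lifts (objW (F := F) φ V) x₀),
      (move a b φ hcart V x₀ x₁ h v).1 ≫ π = v.1 ≫ π := by
    intro T x₀ x₁ h v
    have := e.inv.comm x₀ x₁ h v (e.inv.push v) rfl
    show _ ≫ θ ≫ _ = _ ≫ θ ≫ _
    rw [← Category.assoc, ← Category.assoc]
    refine ((congrArg (· ≫ pullback.snd _ _) this).symm.trans ?_)
    exact pullback.lift_snd _ _ _
  let i := isInv a b φ hcart V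
  let R := ActGroupoid.gpd (a.prod b)
  have hiv : ∀ {T : Scheme.{u}} (v : T ⟶ (WXF (F := F) φ V).toScheme),
      v ≫ π ≫ U.hom = (v ≫ (fst X F).left ∣_ PX φ V) ≫ φ.left ∣_ V := fun v => by
    rw [← hθ₁]
    simp only [π, Category.assoc, pullback.condition]
  have w : resT R (WXF φ V) i ≫ π = resS R (WXF φ V) ≫ π := by
    let x₀ := resS R (WXF φ V) ≫ (fst X F).left ∣_ PX φ V
    let x₁ := resT R (WXF φ V) i ≫ (fst X F).left ∣_ PX φ V
    have hx : x₀ ≫ φ.left ∣_ V = x₁ ≫ φ.left ∣_ V := by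
      rw [← cancel_mono V.ι]
      simp only [x₀, x₁, Category.assoc, morphismRestrict_ι, morphismRestrict_ι_assoc]
      refine Eq.trans ?_ ((reassoc_of% (resT_ι R (WXF φ V) i)) ((fst X F).left ≫ φ.left)).symm
      exact congrArg ((R.s ⁻¹ᵁ WXF φ V).ι ≫ ·) (congrArg CommaMorphism.left (act_base a b φ hcart)).symm
    obtain ⟨r, hs, ht⟩ := move_spec a b φ hcart V x₀ x₁ hx ⟨resS R (WXF φ V), rfl⟩
    have hr : r = (R.s ⁻¹ᵁ WXF φ V).ι := by
      refine arr_ext a b φ hcart _ _ ?_ (hs.trans (resS_ι R (WXF φ V)))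
      rw [reassoc_of% ht, ← Category.assoc, lift_fst_eq a φ hcart V]
      simp only [x₁, Category.assoc, morphismRestrict_ι]
      exact (reassoc_of% (resT_ι R (WXF φ V) i)) _
    have hT : (move a b φ hcart V x₀ x₁ hx ⟨resS R (WXF φ V), rfl⟩).1 = resT R (WXF φ V) i := by
      rw [← cancel_mono (WXF φ V).ι, ← ht, hr]
      exact (resT_ι R (WXF φ V) i).symm
    rw [← hT]
    exact hθ₂ _ _ hx _
  haveI : Mono R.j := mono_j a b φ hcart
  have hex : ∀ c : PullbackCone π π, ∃ l : c.pt ⟶ (R.s ⁻¹ᵁ WXF φ V).toScheme,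
      l ≫ resT R (WXF φ V) i = c.fst ∧ l ≫ resS R (WXF φ V) = c.snd := by
    intro c
    let x₀ := c.snd ≫ (fst X F).left ∣_ PX φ V
    let x₁ := c.fst ≫ (fst X F).left ∣_ PX φ V
    have hx : x₀ ≫ φ.left ∣_ V = x₁ ≫ φ.left ∣_ V := by
      simp only [x₀, x₁, ← hiv, reassoc_of% c.condition]
    obtain ⟨r, hs, ht⟩ := move_spec a b φ hcart V x₀ x₁ hx ⟨c.snd, rfl⟩
    have hv : (move a b φ hcart V x₀ x₁ hx ⟨c.snd, rfl⟩).1 = c.fst := by
      rw [← cancel_mono θ]
      refine pullback.hom_ext ?_ ?_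
      · rw [Category.assoc, Category.assoc, hθ₁]
        exact (move a b φ hcart V x₀ x₁ hx ⟨c.snd, rfl⟩).2
      · rw [Category.assoc, Category.assoc]
        exact (hθ₂ _ _ hx _).trans c.condition.symm
    refine ⟨IsOpenImmersion.lift (R.s ⁻¹ᵁ WXF φ V).ι r ?_, ?_, ?_⟩
    · rintro _ ⟨z, rfl⟩
      rw [Scheme.Opens.range_ι]
      show (snd G (X ⊗ F)).left (r z) ∈ WXF φ V
      rw [← Scheme.Hom.comp_apply, hs, Scheme.Hom.comp_apply]
      exact (c.snd z).2
    · rw [← cancel_mono (WXF φ V).ι, Category.assoc, resT_ι, IsOpenImmersion.lift_fac_assoc, ← hv]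
      exact ht
    · rw [← cancel_mono (WXF φ V).ι, Category.assoc, resS_ι, IsOpenImmersion.lift_fac_assoc]
      exact hs
  choose l hl₁ hl₂ using hex
  refine ⟨⟨i, U.left, π, inferInstance, inferInstance, inferInstance,
    ⟨⟨w⟩, ⟨PullbackCone.IsLimit.mk _ l hl₁ hl₂ fun c m h₁ h₂ => ?_⟩⟩⟩⟩
  refine (cancel_mono (R.s ⁻¹ᵁ WXF φ V).ι).1 (arr_ext a b φ hcart _ _ ?_ ?_)
  · have e1 := congrArg (· ≫ (WXF φ V).ι ≫ (fst X F).left) (h₁.trans (hl₁ c).symm)
    simp only [Category.assoc] at e1 ⊢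
    exact ((congrArg (m ≫ ·) ((reassoc_of% (resT_ι R (WXF φ V) i)) (fst X F).left)).symm.trans e1).trans
      (congrArg (l c ≫ ·) ((reassoc_of% (resT_ι R (WXF φ V) i)) (fst X F).left))
  · have e2 := congrArg (· ≫ (WXF φ V).ι) (h₂.trans (hl₂ c).symm)
    simp only [Category.assoc, resS_ι] at e2 ⊢
    exact e2

omit hcart [IsAffineHom φ.left] [Flat φ.left] [Surjective φ.left] [LocallyOfFinitePresentation φ.left] [IsAffineHom F.hom] in
theorem exists_desc {A B C : Over S} (π : A ⟶ B) [Flat π.left] [Surjective π.left]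
    [LocallyOfFinitePresentation π.left] (f : A ⟶ C)
    (h : ∀ (T : Over S) (x y : T ⟶ A), x ≫ π = y ≫ π → x ≫ f = y ≫ f) : ∃ g : B ⟶ C, π ≫ g = f := by
  have h' : ∀ {T : Scheme.{u}} (x y : T ⟶ A.left), x ≫ π.left = y ≫ π.left → x ≫ f.left = y ≫ f.left := by
    intro T x y e
    have hw : y ≫ A.hom = x ≫ A.hom := by rw [← Over.w π, reassoc_of% e]
    exact congrArg CommaMorphism.left (h (Over.mk (x ≫ A.hom)) (Over.homMk x rfl) (Over.homMk y hw)
      (Over.OverMorphism.ext e))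
  refine ⟨Over.homMk (EffectiveEpi.desc π.left f.left h') ?_, Over.OverMorphism.ext (EffectiveEpi.fac π.left f.left h')⟩
  rw [← cancel_epi π.left, ← Category.assoc, EffectiveEpi.fac π.left f.left h', Over.w f, Over.w π]

/-- The associated bundle. -/
theorem exists_assocBundle :
    ∃ (Q : Over S) (q : X ⊗ F ⟶ Q) (r : Q ⟶ Y), q ≫ r = fst X F ≫ φ ∧
      IsPullback (a.prod b).act (snd G (X ⊗ F)) q q ∧ IsPullback (fst X F) q φ r ∧
      Flat q.left ∧ Surjective q.left ∧ LocallyOfFinitePresentation q.left ∧ IsAffineHom q.left := by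
  haveI : Mono (ActGroupoid.gpd (a.prod b)).j := mono_j a b φ hcart
  obtain ⟨Q₀, q₀, hs, hf, hl, hpb⟩ := GrpdThick.exists_quotient_of_cover (ActGroupoid.gpd (a.prod b)) fun z => by
    obtain ⟨V, hV, hz⟩ := exists_affineOpen_mem (φ.left ((fst X F).left z))
    exact ⟨WXF φ V, hz, exists_quotData_affine a b φ hcart V hV⟩
  have hw : ∀ {T : Scheme.{u}} (x y : T ⟶ (X ⊗ F).left), x ≫ q₀ = y ≫ q₀ → x ≫ (X ⊗ F).hom = y ≫ (X ⊗ F).hom := by
    intro T x y h
    obtain ⟨r, hr1, hr2⟩ := hpb.exists_lift x y h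
    rw [← hr1, ← hr2, Category.assoc, Category.assoc]
    exact congrArg (r ≫ ·) ((Over.w (a.prod b).act).trans (Over.w (snd G (X ⊗ F))).symm)
  let Q : Over S := Over.mk (EffectiveEpi.desc q₀ (X ⊗ F).hom hw)
  let q : X ⊗ F ⟶ Q := Over.homMk q₀ (EffectiveEpi.fac q₀ _ hw)
  haveI : Surjective q.left := hs
  haveI : Flat q.left := hf
  haveI : LocallyOfFinitePresentation q.left := hl
  haveI : Epi q := (Over.forget S).epi_of_epi_map (inferInstanceAs (Epi q.left))
  have hq : IsPullback (a.prod b).act (snd G (X ⊗ F)) q q :=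
    IsPullback.of_map (Over.forget S) (f := (a.prod b).act) (g := snd G (X ⊗ F)) (h := q) (i := q)
      (Over.OverMorphism.ext hpb.w) hpb
  obtain ⟨r, hr⟩ := exists_desc q (fst X F ≫ φ) fun T x y h => by
    obtain ⟨ρ, rfl, rfl⟩ := hq.exists_lift x y h
    rw [Category.assoc, Category.assoc, act_base a b φ hcart]
  have hmono : ∀ {T : Over S} (x y : T ⟶ X ⊗ F), x ≫ fst X F = y ≫ fst X F → x ≫ q = y ≫ q → x = y := by
    intro T x y h₁ h₂
    obtain ⟨ρ, rfl, rfl⟩ := hq.exists_lift x y h₂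
    have h₁' := congrArg CommaMorphism.left h₁
    simp only [Over.comp_left, Category.assoc] at h₁'
    exact Over.OverMorphism.ext (arr_self a b φ hcart ρ.left h₁')
  have hex : ∀ c : PullbackCone φ r, ∃ l : c.pt ⟶ X ⊗ F, l ≫ fst X F = c.fst ∧ l ≫ q = c.snd := by
    intro c
    let π := pullback.fst c.snd q
    have hπ := (IsPullback.of_hasPullback c.snd q).map (Over.forget S)
    haveI : Flat π.left := MorphismProperty.of_isPullback hπ.flip ‹Flat q.left›
    haveI : Surjective π.left := MorphismProperty.of_isPullback hπ.flip ‹Surjective q.left›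
    haveI : LocallyOfFinitePresentation π.left :=
      MorphismProperty.of_isPullback hπ.flip ‹LocallyOfFinitePresentation q.left›
    haveI : Epi π := (Over.forget S).epi_of_epi_map (inferInstanceAs (Epi π.left))
    let w := pullback.snd c.snd q
    have hwq : w ≫ q = π ≫ c.snd := pullback.condition.symm
    have h2 : (π ≫ c.fst) ≫ φ = w ≫ fst X F ≫ φ := by
      rw [← hr, reassoc_of% hwq, Category.assoc, c.condition]
    let m := (cart₂ a φ hcart (F := F)).lift (π ≫ c.fst) w h2 ≫ (a.prod b).act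
    have hm₁ : m ≫ fst X F = π ≫ c.fst := by
      rw [Category.assoc, act_fst a b]
      exact (cart₂ a φ hcart (F := F)).lift_fst _ _ _
    have hm₂ : m ≫ q = π ≫ c.snd := by
      rw [Category.assoc, hq.w, ← Category.assoc, (cart₂ a φ hcart (F := F)).lift_snd, hwq]
    obtain ⟨l, hl⟩ := exists_desc π m fun T x y h => hmono _ _
      (by simp only [Category.assoc, hm₁, reassoc_of% h]) (by simp only [Category.assoc, hm₂, reassoc_of% h])
    exact ⟨l, by rw [← cancel_epi π, reassoc_of% hl, hm₁], by rw [← cancel_epi π, reassoc_of% hl, hm₂]⟩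
  choose l hl₁ hl₂ using hex
  have hsq : IsPullback (fst X F) q φ r :=
    ⟨⟨hr.symm⟩, ⟨PullbackCone.IsLimit.mk _ l hl₁ hl₂ fun c m h₁ h₂ =>
      hmono _ _ (h₁.trans (hl₁ c).symm) (h₂.trans (hl₂ c).symm)⟩⟩
  exact ⟨Q, q, r, hr, hq, hsq, hf, hs, hl,
    MorphismProperty.of_isPullback (hsq.map (Over.forget S)) ‹IsAffineHom φ.left›⟩

end Groth.Agent.AssocBdl
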