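import Groth.Prelude.Def_ChGrp
import Groth.Agent.SchTorsor.Props
import Groth.Agent.GITQuot.BaseChange
import Mathlib.AlgebraicGeometry.Morphisms.FlatDescent
import Groth.Agent.EtFound.Descent

/-! Properties of the projection of a torsor given by a cartesian action square. -/

set_option autoImplicit false
set_option backward.isDefEq.respectTransparency false
set_option backward.isDefEq.respectTransparency.types false
set_option linter.style.haveILetI false

universe u

open CategoryTheory CategoryTheory.Limits MonoidalCategory CartesianMonoidalCategory MonObj AlgebraicGeometry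

namespace Groth.Agent.AssocBdl

variable {S : Scheme.{u}} {G X Y : Over S} [GrpObj G]

/-- Properties local for the fpqc topology pass from the group to the projection of a torsor. -/
theorem torsorProj_property (P : MorphismProperty Scheme.{u}) [P.IsStableUnderBaseChange] [IsZariskiLocalAtTarget P]
    [P.DescendsAlong (@Surjective ⊓ @Flat ⊓ @QuasiCompact)] (a : AlgGrp.Action G X) (φ : X ⟶ Y)
    (hcart : IsPullback a.act (snd G X) φ φ)
    (hloc : NonAbH1.IsLocallyTrivialFor Scheme.fpqcPrecoverage (Over.mk φ.left : Over Y.left)) (hG : P G.hom) :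
    P φ.left := by
  refine IsZariskiLocalAtTarget.of_openCover Y.left.affineCover fun i => ?_
  obtain ⟨Z, p, hp₁, hp₂, hp₃, s, hs⟩ := SchTorsor.exists_single hloc (Y.left.affineCover.f i)
  show P (pullback.snd φ.left (Y.left.affineCover.f i))
  refine MorphismProperty.of_pullback_snd_of_descendsAlong (Q := @Surjective ⊓ @Flat ⊓ @QuasiCompact)
    (g := p) ⟨⟨hp₁, hp₂⟩, hp₃⟩ ?_
  let t : Z ⟶ Y.left := p ≫ Y.left.affineCover.f i
  change s ≫ φ.left = t at hs
  let T : Over S := Over.mk (s ≫ X.hom)
  let σ : T ⟶ X := Over.homMk s rfl
  have hsq : IsPullback ((G ◁ σ) ≫ a.act).left (snd G T).left φ.left t := by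
    have h := GITQuot.isPullback_left ((GITQuot.isPullback_tensorLeft σ).paste_horiz hcart)
    have e : (σ ≫ φ).left = t := hs
    rw [e] at h
    exact h
  have hGt : P (snd G T).left := MorphismProperty.pullback_snd G.hom T.hom hG
  have hXt : P (pullback.snd φ.left t) := by
    rw [← P.cancel_left_of_respectsIso hsq.isoPullback.hom, hsq.isoPullback_hom_snd]
    exact hGt
  have hw : (pullbackLeftPullbackSndIso φ.left (Y.left.affineCover.f i) p).hom ≫ pullback.snd φ.left t =
      pullback.snd (pullback.snd φ.left (Y.left.affineCover.f i)) p :=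
    pullbackLeftPullbackSndIso_hom_snd φ.left (Y.left.affineCover.f i) p
  rw [← hw, P.cancel_left_of_respectsIso]
  exact hXt

end Groth.Agent.AssocBdl
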